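import Mathlib
import Cfsg.Agent.H229.RIM.Str
import Cfsg.Agent.H586.GW.CoreOf
import Cfsg.Agent.CharDeep.Twist
import Cfsg.Agent.H37.NX.Top
import Cfsg.Agent.H696.RIM.Red

/-!
# S4816: case A gives the core situation (helper586)
-/

set_option autoImplicit false
set_option linter.style.haveILetI false
set_option linter.unusedSectionVars false
open Cfsg

namespace Cfsg.Agent.H586.RIM

open Cfsg.Agent.Characters.Core Cfsg.Agent.Characters.Clifford Cfsg.Agent.H672
open Cfsg.Agent.H672.RM (over_lin_iff)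
open Cfsg.Agent.H586.GW
open Cfsg.Agent.H229.RIM
open scoped commutatorElement

universe u

section det

/-- The determinant of a character over an invariant linear character. -/
theorem exists_det {G : Type*} [Group G] [Finite G] (Y T : Subgroup G) [hY : Y.Normal] (hYT : Y ≤ T)
    (lam : Y →* ℂˣ) (hinv : ∀ g ∈ T, cj g lam = lam) {χ : T → ℂ} (hχ : IsIrrCharacter T χ)
    (hov : Over (Subgroup.inclusion hYT) χ (lf lam)) :
    ∃ κ : T →* ℂˣ, ∀ y : Y, κ (Subgroup.inclusion hYT y) = lam y ^ charDegree χ := by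
  classical
  letI := Fintype.ofFinite Y
  have h0 : classInner (fun n : Y => χ ⟨(n : G), hYT n.2⟩) (lf lam) ≠ 0 :=
    (over_iff (Subgroup.inclusion hYT) χ (lf lam)).1 hov
  have h1 := CharDeep.CliffordCorr.restrict_eq_mul_of_invariant Y T hYT hχ (isIrr_lf lam) (by
    intro g hg n
    have h2 := (cj_eq_iff g lam).1 (hinv g hg) n
    rw [lf_apply, lf_apply]
    exact congrArg Units.val h2) h0
  obtain ⟨c, hc⟩ : ∃ c : ℂ, ∀ n : Y, χ ⟨(n : G), hYT n.2⟩ = c * (lam n : ℂ) := ⟨_, h1⟩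
  have hc1 : χ 1 = c := by
    have := hc 1
    rw [map_one, Units.val_one, mul_one] at this
    exact this
  obtain ⟨n, ρ, hirr, hρ⟩ := hχ
  have hn : charDegree χ = n := by
    apply charDegree_of_eq
    rw [← hρ]
    simp
  have hn1 : χ 1 = n := by
    rw [← hρ]
    simp
  refine ⟨CharDeep.Twist.detHom ρ, fun y => ?_⟩
  let σ : Representation ℂ Y (Fin n → ℂ) :=
    CharDeep.Twist.twist lam⁻¹ (ρ.comp (Subgroup.inclusion hYT))
  have h3 : σ.character y = Module.finrank ℂ (Fin n → ℂ) := by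
    rw [CharDeep.Twist.twist_character]
    have h4 : Representation.character (ρ.comp (Subgroup.inclusion hYT)) y = χ ⟨(y : G), hYT y.2⟩ := by
      rw [← hρ]
      rfl
    rw [h4, hc, ← hc1, hn1, MonoidHom.inv_apply, Module.finrank_fin_fun]
    have h5 : (((lam y)⁻¹ : ℂˣ) : ℂ) * ((lam y : ℂˣ) : ℂ) = 1 := by
      rw [← Units.val_mul, inv_mul_cancel, Units.val_one]
    linear_combination (n : ℂ) * h5
  have h4 : σ y = 1 := (Cfsg.Agent.Characters.Values.character_eq_finrank_iff σ y).1 h3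
  have h5 : ρ (Subgroup.inclusion hYT y) = (lam y : ℂ) • 1 := by
    have h6 : (((lam⁻¹ : Y →* ℂˣ) y : ℂˣ) : ℂ) • ρ (Subgroup.inclusion hYT y) = 1 := h4
    rw [← h6, smul_smul, MonoidHom.inv_apply, ← Units.val_mul, mul_inv_cancel, Units.val_one,
      one_smul]
  apply Units.ext
  rw [CharDeep.Twist.detHom_apply, h5, LinearMap.det_smul, Module.End.one_eq_id, LinearMap.det_id,
    mul_one, Module.finrank_fin_fun, Units.val_pow_eq_pow_val, hn]

end det

section str

variable {p : ℕ} [hp : Fact p.Prime] {G : Type u} [Group G] [Finite G] {Z Y C Q K : Subgroup G}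
  {l : Z →* ℂˣ} (A : CaseA p Z Y C Q K l)
include A

theorem zn_A : Z.Normal := A.min.zn

theorem abY_A : ∀ a ∈ Y, ∀ b ∈ Y, a * b = b * a := fun a ha b hb => A.abC a (A.YC ha) b (A.YC hb)

theorem ZC_A : Z ≤ C := A.ZY.le.trans A.YC

theorem QC_A : Q ≤ C := by
  rw [A.CQ]
  exact le_sup_right

theorem eq_one_of_p {x : G} (hz : x ∈ Z) {k : ℕ} (hk : x ^ p ^ k = 1) : x = 1 := by
  have h4 := orderOf_dvd_of_pow_eq_one (pow_natCard_mem hz)
  have h3 := orderOf_dvd_of_pow_eq_one hk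
  exact orderOf_eq_one_iff.1 (Nat.eq_one_of_dvd_coprimes
    (Nat.Coprime.pow_left k A.min.cop) h3 h4)

theorem ZQ_A {x : G} (hz : x ∈ Z) (hq : x ∈ Q) : x = 1 := by
  obtain ⟨k, hk⟩ := A.Qp ⟨x, hq⟩
  exact eq_one_of_p A hz (congrArg Subtype.val hk)

/-- `p`-elements of `C` are in `Q`. -/
theorem mem_Q_of_p {x : G} (hx : x ∈ C) {k : ℕ} (hk : x ^ p ^ k = 1) : x ∈ Q := by
  haveI := A.nQ
  have hx' := hx
  rw [A.CQ] at hx'
  obtain ⟨z, hz, u, hu, rfl⟩ := Subgroup.mem_sup_of_normal_right.1 hx'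
  have hc : Commute z u := (Subgroup.mem_center_iff.1 (A.min.cen hz) u).symm
  rw [hc.mul_pow] at hk
  have h1 : z ^ p ^ k ∈ Q := by
    have h2 : z ^ p ^ k = (u ^ p ^ k)⁻¹ := eq_inv_of_mul_eq_one_left hk
    rw [h2]
    exact Q.inv_mem (Q.pow_mem hu _)
  have h2 := ZQ_A A (Z.pow_mem hz _) h1
  rw [eq_one_of_p A hz h2, one_mul]
  exact hu

theorem exists_j : ∃ j : ℕ, p ∣ j ∧ ∀ z ∈ Z, z ^ j = z := by
  obtain ⟨j, h1, h2⟩ := Nat.chineseRemainder A.min.cop 0 1
  refine ⟨j, (Nat.modEq_zero_iff_dvd).1 h1, fun z hz => ?_⟩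
  conv_rhs => rw [← pow_one z]
  exact pow_eq_pow_iff_modEq.2 (h2.of_dvd (orderOf_dvd_of_pow_eq_one (pow_natCard_mem hz)))

/-- the invariant extension of `l` to `Y` -/
theorem exists_mu : ∃ μ : Y →* ℂˣ, (∀ z (hz : z ∈ Z), μ ⟨z, A.ZY.le hz⟩ = l ⟨z, hz⟩) ∧
    (∀ y : Y, (y : G) ∈ Q → μ y = 1) ∧ (∀ y, μ y ^ Nat.card Z = 1) ∧
    ∀ (g : G) (y y' : Y), (y' : G) = g * y * g⁻¹ → μ y' = μ y := by
  obtain ⟨j, hj, hZ⟩ := exists_j A
  have hmem : ∀ y ∈ Y, y ^ j ∈ Z := by
    intro y hy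
    obtain ⟨c, rfl⟩ := hj
    rw [pow_mul]
    exact Z.pow_mem (A.expY y hy) _
  let f : Y →* Z :=
    { toFun := fun y => ⟨(y : G) ^ j, hmem y y.2⟩
      map_one' := Subtype.ext (by simp)
      map_mul' := by
        intro a b
        apply Subtype.ext
        change ((a : G) * (b : G)) ^ j = (a : G) ^ j * (b : G) ^ j
        exact (show Commute (a : G) (b : G) from abY_A A a a.2 b b.2).mul_pow j }
  have hf : ∀ y, ((f y : Z) : G) = (y : G) ^ j := fun _ => rfl
  refine ⟨l.comp f, ?_, ?_, ?_, ?_⟩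
  · intro z hz
    rw [MonoidHom.comp_apply]
    congr 1
    exact Subtype.ext (hZ z hz)
  · intro y hy
    rw [MonoidHom.comp_apply]
    have : f y = 1 := Subtype.ext (ZQ_A A (f y).2 (by rw [hf]; exact Q.pow_mem hy _))
    rw [this, map_one]
  · intro y
    rw [MonoidHom.comp_apply, ← map_pow, pow_card_eq_one', map_one]
  · intro g y y' h
    rw [MonoidHom.comp_apply, MonoidHom.comp_apply]
    congr 1
    apply Subtype.ext
    rw [hf, hf, h, conj_pow, Subgroup.mem_center_iff.1 (A.min.cen (hmem y y.2)) g, mul_inv_cancel_right]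

theorem cj_C [Y.Normal] {g : G} (hg : g ∈ C) (v : Y →* ℂˣ) : cj g v = v := by
  rw [cj_eq_iff]
  intro y
  congr 1
  apply Subtype.ext
  rw [MulAut.conjNormal_apply, A.abC g hg y (A.YC y.2), mul_inv_cancel_right]

theorem ker_A [Y.Normal] (g : G) : (∀ v ∈ tr Z Y, cj g v = v) ↔ g ∈ C := by
  haveI := A.min.zn
  constructor
  · intro h
    apply A.cent
    intro y hy
    have h1 : ((MulAut.conjNormal g (⟨y, hy⟩ : Y) * (⟨y, hy⟩ : Y)⁻¹ : Y) : G) ∈ Z := by
      apply sep_tr A.min.zn (abY_A A)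
      intro v hv
      rw [map_mul, (cj_eq_iff g v).1 (h v hv), map_inv, mul_inv_cancel]
    exact h1
  · intro hg v _
    exact cj_C A hg v

theorem irr_A [Y.Normal] {W : Subgroup (Y →* ℂˣ)} (hW : W ≤ tr Z Y)
    (hst : ∀ g : G, ∀ w ∈ W, cj g w ∈ W) : W = ⊥ ∨ W = tr Z Y := by
  classical
  haveI := A.min.zn
  have hYn : Y.Normal := inferInstance
  by_cases h : ∀ a : Y, (∀ w ∈ W, w a = 1) → (a : G) ∈ Z
  · exact Or.inr (eq_tr_of_ann A.min.zn (abY_A A) hW h)
  · push Not at h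
    obtain ⟨a, haW, ha⟩ := h
    left
    let B : Subgroup G :=
      { carrier := {y | ∃ h : y ∈ Y, ∀ w ∈ W, w ⟨y, h⟩ = 1}
        one_mem' := ⟨one_mem _, fun w _ => map_one w⟩
        mul_mem' := by
          rintro a b ⟨ha, h1⟩ ⟨hb, h2⟩
          refine ⟨mul_mem ha hb, fun w hw => ?_⟩
          have : (⟨a * b, mul_mem ha hb⟩ : Y) = ⟨a, ha⟩ * ⟨b, hb⟩ := rfl
          rw [this, map_mul, h1 w hw, h2 w hw, mul_one]
        inv_mem' := by
          rintro a ⟨ha, h1⟩
          refine ⟨inv_mem ha, fun w hw => ?_⟩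
          have : (⟨a⁻¹, inv_mem ha⟩ : Y) = (⟨a, ha⟩ : Y)⁻¹ := rfl
          rw [this, map_inv, h1 w hw, inv_one] }
    have hBn : B.Normal := by
      constructor
      rintro y ⟨hy, h1⟩ g
      refine ⟨hYn.conj_mem y hy g, fun w hw => ?_⟩
      have h2 := h1 (cj g⁻¹ w) (hst _ w hw)
      rw [cj_apply, inv_inv] at h2
      exact h2
    have hZB : Z < B := by
      refine lt_of_le_of_ne (fun z hz => ⟨A.ZY.le hz, fun w hw => hW hw _ hz⟩) ?_
      intro h
      apply ha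
      rw [h]
      exact ⟨a.2, haW⟩
    have hYB := A.uniq B hBn hZB
    rw [eq_bot_iff]
    intro w hw
    rw [Subgroup.mem_bot]
    ext y
    obtain ⟨_, h2⟩ := hYB y.2
    rw [h2 w hw]
    rfl

theorem nt_A [Y.Normal] : Nontrivial (tr Z Y) := by
  rw [Subgroup.nontrivial_iff_ne_bot]
  intro h
  apply A.ZY.not_ge
  intro y hy
  refine sep_tr A.min.zn (abY_A A) ⟨y, hy⟩ ?_
  intro v hv
  rw [h, Subgroup.mem_bot] at hv
  rw [hv]
  rfl

theorem exp_A {v : Y →* ℂˣ} (hv : v ∈ tr Z Y) (y : Y) : v y ^ p = 1 := by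
  rw [← map_pow]
  exact hv _ (A.expY y y.2)

/-- extensions of `l` -/
theorem rel_A [Y.Normal] (lam : Y →* ℂˣ)
    (h : ∀ z (hz : z ∈ Z), lam ⟨z, A.ZY.le hz⟩ = l ⟨z, hz⟩) : RelP p Y.subtype (lf lam) := by
  haveI := A.min.zn
  refine A.min.rel.up Z (isIrr_lf l) (charDegree_lf l) Y A.ZY.le (isIrr_lf lam) ?_
  have hcY : ∀ n, Subgroup.inclusion A.ZY.le n ∈ Subgroup.center Y := by
    intro n
    rw [Subgroup.mem_center_iff]
    intro g
    exact Subtype.ext (Subgroup.mem_center_iff.1 (A.min.cen n.2) (g : G))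
  rw [over_lin_iff _ hcY (isIrr_lf lam)]
  intro n
  rw [lf_apply, lf_apply, map_one, Units.val_one, one_mul]
  exact congrArg Units.val (h n n.2)

/-- An invariant character of `Y / Z` extends to its stabilizer. -/
theorem exists_nu [Y.Normal] {μ : Y →* ℂˣ} (hμl : ∀ z (hz : z ∈ Z), μ ⟨z, A.ZY.le hz⟩ = l ⟨z, hz⟩)
    (hμZ : ∀ y, μ y ^ Nat.card Z = 1) {w : Y →* ℂˣ} (hw : w ∈ tr Z Y) (T : Subgroup G)
    (hT : T = inertia Y (lf (μ * w))) (hYT : Y ≤ T) :
    ∃ ν : T →* ℂˣ, ∀ y : Y, ν (Subgroup.inclusion hYT y) = w y := by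
  classical
  have hlam : ∀ z (hz : z ∈ Z), (μ * w) ⟨z, A.ZY.le hz⟩ = l ⟨z, hz⟩ := by
    intro z hz
    rw [MonoidHom.mul_apply, hμl, hw _ hz, mul_one]
  have hrel := (rel_A A (μ * w) hlam).inertia Y (isIrr_lf (μ * w)) T hT hYT
  let e : Y ≃* Y.subgroupOf T := (Subgroup.subgroupOfEquivOfLe hYT).symm
  obtain ⟨χ, hχ, hov⟩ := exists_over_inj (Subgroup.inclusion hYT) (Subgroup.inclusion_injective hYT)
    (isIrr_lf (μ * w))
  have hd : ¬ p ∣ charDegree χ := by
    have := hrel χ hχ hov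
    rwa [charDegree_lf, mul_one] at this
  obtain ⟨κ, hκ⟩ := exists_det Y T hYT (μ * w) (by
    intro g hg
    rw [hT, mem_inertia_iff_cj] at hg
    exact hg) hχ hov
  obtain ⟨i, hi⟩ : ∃ i : ℕ, charDegree χ * Nat.card Z * i ≡ 1 [MOD p] := by
    obtain ⟨i, -, hi⟩ := Nat.exists_mul_mod_eq_one_of_coprime (k := p) (n := charDegree χ * Nat.card Z)
      (Nat.Coprime.mul_left ((Nat.Prime.coprime_iff_not_dvd hp.out).2 hd).symm A.min.cop.symm)
      hp.out.one_lt
    exact ⟨i, by rw [Nat.ModEq, hi, Nat.mod_eq_of_lt hp.out.one_lt]⟩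
  refine ⟨κ ^ (Nat.card Z * i), fun y => ?_⟩
  rw [MonoidHom.pow_apply, hκ, MonoidHom.mul_apply, ← pow_mul, mul_pow]
  have h1 : μ y ^ (charDegree χ * (Nat.card Z * i)) = 1 := by
    rw [show charDegree χ * (Nat.card Z * i) = Nat.card Z * (charDegree χ * i) by ring, pow_mul, hμZ,
      one_pow]
  rw [h1, one_mul]
  conv_rhs => rw [← pow_one (w y)]
  refine pow_eq_pow_iff_modEq.2 ?_
  rw [← mul_assoc]
  exact hi.of_dvd (orderOf_dvd_of_pow_eq_one (exp_A A hw y))

end str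

section main

variable {p : ℕ} [hp : Fact p.Prime] {G : Type u} [Group G] [Finite G] {Z Y C Q K : Subgroup G}
  {l : Z →* ℂˣ}

theorem coreP_of_caseA (hIM : H37.NX.IM.{u} p) (A : CaseA p Z Y C Q K l)
    (hsup : ∀ L : Subgroup G, L.Normal → L ⊔ Z = ⊤ → L = ⊤) :
    ∃ (H V : Type u) (_ : Group H) (_ : Finite H) (_ : AddCommGroup V) (_ : Finite V)
      (_ : DistribMulAction H V) (K' N : Subgroup H) (φ : N →* ℂˣ), CoreP (V := V) p K' N φ := by
  classical
  haveI hYn := A.nY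
  haveI hZn := A.min.zn
  haveI hKn := A.nK
  haveI hQn := A.nQ
  haveI : Finite (Y →* ℂˣ) := Cfsg.Agent.Blocks.SemiregularGram.finite_hom Y
  have hZC := ZC_A A
  have hQC := QC_A A
  have hQK : Q ≤ K := hQC.trans A.CK
  obtain ⟨μ, hμl, hμQ, hμZ, hμ'⟩ := exists_mu A
  have hμ : ∀ g : G, cj g μ = μ := fun g => (cj_eq_iff g μ).2 fun y => hμ' g y _ rfl
  -- the quotient
  let q : G →* G ⧸ Q := QuotientGroup.mk' Q
  have hq : Function.Surjective q := QuotientGroup.mk'_surjective Q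
  have hkq : q.ker = Q := QuotientGroup.ker_mk' Q
  have hq1 : ∀ g, q g = 1 ↔ g ∈ Q := fun g => QuotientGroup.eq_one_iff g
  have hcomapZ : (Z.map q).comap q = C := by
    rw [Subgroup.comap_map_eq, hkq, ← A.CQ]
  have hcomapK : (K.map q).comap q = K := by
    rw [Subgroup.comap_map_eq, hkq, sup_eq_left.2 hQK]
  let ρ : G ⧸ Q →* AddMonoid.End (Additive (tr Z Y)) := QuotientGroup.lift Q (actG Z Y) (by
    intro g hg
    ext v : 1
    exact Subtype.ext (cj_C A (hQC hg) _))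
  letI act : DistribMulAction (G ⧸ Q) (Additive (tr Z Y)) :=
    DistribMulAction.compHom (Additive (tr Z Y)) ρ
  have hsmul : ∀ (g : G) (v : Additive (tr Z Y)),
      ((q g • v).toMul : Y →* ℂˣ) = cj g (v.toMul : Y →* ℂˣ) := fun _ _ => rfl
  have hsmul' : ∀ (g : G) (v : Additive (tr Z Y)), q g • v = v ↔
      cj g (v.toMul : Y →* ℂˣ) = v.toMul := by
    intro g v
    constructor
    · intro h
      rw [← hsmul, h]
    · intro h
      exact Subtype.ext h
  let N : Subgroup (G ⧸ Q) := Z.map q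
  let f : Z →* N := (q.comp Z.subtype).codRestrict N (fun y => ⟨y, y.2, rfl⟩)
  have hf : Function.Surjective f := by
    rintro ⟨_, y, hy, rfl⟩
    exact ⟨⟨y, hy⟩, rfl⟩
  have hkf : f.ker ≤ l.ker := by
    intro y hy
    have h1 : q (y : G) = 1 := congrArg Subtype.val (MonoidHom.mem_ker.1 hy)
    have h2 : y = 1 := Subtype.ext (ZQ_A A y.2 ((hq1 _).1 h1))
    rw [h2]
    exact one_mem _
  let φ : N →* ℂˣ := f.liftOfSurjective hf ⟨l, hkf⟩
  have hφ : ∀ y, φ (f y) = l y := fun y => MonoidHom.liftOfRightInverse_comp_apply _ _ _ _ _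
  have hinj : Function.Injective φ := by
    rw [injective_iff_map_eq_one]
    intro y hy
    obtain ⟨y, rfl⟩ := hf y
    rw [hφ] at hy
    have : y = 1 := A.min.inj (by rw [hy, map_one])
    rw [this, map_one]
  have hqN : ∀ g, q g ∈ N ↔ g ∈ C := by
    intro g
    have : g ∈ (Z.map q).comap q ↔ g ∈ C := by rw [hcomapZ]
    exact this
  have hqK : ∀ g, q g ∈ K.map q ↔ g ∈ K := by
    intro g
    have : g ∈ (K.map q).comap q ↔ g ∈ K := by rw [hcomapK]
    exact this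
  have hcen : N ≤ Subgroup.center (G ⧸ Q) := by
    rintro _ ⟨y, hy, rfl⟩
    rw [Subgroup.mem_center_iff]
    intro x
    obtain ⟨g, rfl⟩ := hq x
    rw [← map_mul, ← map_mul, Subgroup.mem_center_iff.1 (A.min.cen hy) g]
  -- `φ` and `μ`
  have hφμ : ∀ (y : Y) (hy : q (y : G) ∈ N), φ ⟨q y, hy⟩ = μ y := by
    intro y hy
    have h1 : (y : G) ∈ Z ⊔ Q := by rw [← A.CQ]; exact A.YC y.2
    obtain ⟨z, hz, u, hu, h2⟩ := Subgroup.mem_sup_of_normal_right.1 h1
    have hzu : z * u = (y : G) := h2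
    have huY : u ∈ Y := by
      have h3 : u = z⁻¹ * (y : G) := by rw [← hzu, inv_mul_cancel_left]
      rw [h3]
      exact Y.mul_mem (Y.inv_mem (A.ZY.le hz)) y.2
    have h3 : y = ⟨z, A.ZY.le hz⟩ * ⟨u, huY⟩ := Subtype.ext hzu.symm
    have h4 : (⟨q y, hy⟩ : N) = f ⟨z, hz⟩ := by
      apply Subtype.ext
      change q (y : G) = q z
      rw [← hzu, map_mul, (hq1 u).2 hu, mul_one]
    rw [h4, hφ, h3, map_mul, hμl, hμQ ⟨u, huY⟩ hu, mul_one]
  -- the maximal normal subgroup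
  have hmaxK : ∀ M : Subgroup (G ⧸ Q), M.Normal → M ≠ ⊤ → M ≤ K.map q := by
    intro M hM hMt
    have h1 : (M.comap q) ⊔ Z ≤ K := by
      refine A.maxK _ ?_ ?_ ?_
      · haveI := hM.comap q
        exact Subgroup.sup_normal _ _
      · rw [A.CQ]
        refine sup_le le_sup_right (le_trans ?_ le_sup_left)
        intro x hx
        rw [Subgroup.mem_comap, (hq1 x).2 hx]
        exact one_mem _
      · intro h
        have h2 := hsup _ (hM.comap q) h
        apply hMt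
        rw [← Subgroup.map_comap_eq_self_of_surjective hq M, h2]
        exact Subgroup.map_top_of_surjective q hq
    rw [← Subgroup.map_comap_eq_self_of_surjective hq M]
    exact Subgroup.map_mono (le_sup_left.trans h1)
  have hnK : (K.map q).Normal := hKn.map q hq
  let eK : ((G ⧸ Q) ⧸ (K.map q)) ≃* (G ⧸ K) := QuotientGroup.quotientQuotientEquivQuotient Q K hQK
  have hidxK : (K.map q).index = K.index := Subgroup.index_map_eq K hq (by rw [hkq]; exact hQK)
  have hKt : K.map q ≠ ⊤ := by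
    intro h
    apply A.Kt
    rw [← Subgroup.index_eq_one, ← hidxK, h, Subgroup.index_top]
  have hsimp : IsSimpleGroup ((G ⧸ Q) ⧸ (K.map q)) := by
    haveI := A.simp
    exact MulEquiv.isSimpleGroup eK
  have hna : ¬ IsMulCommutative ((G ⧸ Q) ⧸ (K.map q)) := by
    intro h
    apply A.na
    refine ⟨⟨fun a b => ?_⟩⟩
    apply eK.symm.injective
    rw [map_mul, map_mul]
    exact h.is_comm.comm _ _
  have hperf : commutator (G ⧸ Q) = ⊤ := by
    by_contra h
    apply hna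
    refine ⟨⟨fun a b => ?_⟩⟩
    obtain ⟨a, rfl⟩ := QuotientGroup.mk_surjective a
    obtain ⟨b, rfl⟩ := QuotientGroup.mk_surjective b
    have h1 : ⁅a, b⁆ ∈ K.map q := hmaxK _ inferInstance h (Subgroup.commutator_mem_commutator trivial trivial)
    have h2 := (QuotientGroup.eq_one_iff (N := K.map q) _).2 h1
    have h3 : ⁅((a : G ⧸ Q) : (G ⧸ Q) ⧸ (K.map q)), ((b : G ⧸ Q) : (G ⧸ Q) ⧸ (K.map q))⁆ = 1 := h2
    exact commutatorElement_eq_one_iff_mul_comm.1 h3
  have hpS : p ∣ Nat.card ((G ⧸ Q) ⧸ (K.map q)) := by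
    have h1 : Nat.card ((G ⧸ Q) ⧸ (K.map q)) = (K.map q).index := rfl
    rw [h1, hidxK]
    exact A.pS
  have hNK : N ≤ K.map q := Subgroup.map_mono (hZC.trans A.CK)
  have hpN : ¬ p ∣ Nat.card N := by
    intro hd
    exact A.min.pZ (hd.trans (Subgroup.card_dvd_of_surjective f hf))
  have hpK : ¬ p ∣ Nat.card (K.map q) := by
    intro hd
    have h1 : Nat.card N * N.relIndex (K.map q) = Nat.card (K.map q) := by
      rw [← Subgroup.relIndex_bot_left N, ← Subgroup.relIndex_bot_left (K.map q)]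
      exact Subgroup.relIndex_mul_relIndex ⊥ N (K.map q) bot_le hNK
    have h2 : N.relIndex (K.map q) = C.relIndex K := by
      rw [← Subgroup.relIndex_comap, hcomapZ]
    rw [← h1, h2] at hd
    rcases hp.out.dvd_mul.1 hd with h | h
    · exact hpN h
    · exact A.pK h
  have hNs : ∀ (v : Additive (tr Z Y)), ∀ n ∈ N, n ∈ MulAction.stabilizer (G ⧸ Q) v := by
    rintro v _ ⟨z, hz, rfl⟩
    rw [MulAction.mem_stabilizer_iff, hsmul']
    exact cj_C A (hZC hz) _
  -- stabilizers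
  have hinj' : ∀ (w : Y →* ℂˣ) (g : G), g ∈ inertia Y (lf (μ * w)) ↔ cj g w = w := by
    intro w g
    rw [mem_inertia_iff_cj, cj_hom_mul, hμ]
    exact ⟨fun h => mul_left_cancel h, fun h => by rw [h]⟩
  have hlam : ∀ w ∈ tr Z Y, ∀ z (hz : z ∈ Z), (μ * w) ⟨z, A.ZY.le hz⟩ = l ⟨z, hz⟩ := by
    intro w hw z hz
    rw [MonoidHom.mul_apply, hμl, hw _ hz, mul_one]
  have hP2 : ∀ (v : Additive (tr Z Y)) (χ : ↥(MulAction.stabilizer (G ⧸ Q) v) → ℂ),
      IsIrrCharacter ↥(MulAction.stabilizer (G ⧸ Q) v) χ →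
      (∀ n (hn : n ∈ N) (hn' : n ∈ MulAction.stabilizer (G ⧸ Q) v), χ ⟨n, hn'⟩ = χ 1 * φ ⟨n, hn⟩) →
      ¬ p ∣ charDegree χ := by
    intro v χ hχ hχN hd
    set w : Y →* ℂˣ := ((v.toMul : tr Z Y) : Y →* ℂˣ) with hw
    have hwtr : w ∈ tr Z Y := v.toMul.2
    obtain ⟨T, hT⟩ : ∃ T : Subgroup G, T = inertia Y (lf (μ * w)) := ⟨_, rfl⟩
    have hmemT : ∀ g, g ∈ T ↔ cj g w = w := by
      intro g
      rw [hT, hinj']
    have hYT : Y ≤ T := fun y hy => (hmemT y).2 (cj_C A (A.YC hy) w)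
    have hqT : ∀ g, q g ∈ MulAction.stabilizer (G ⧸ Q) v ↔ g ∈ T := by
      intro g
      rw [hmemT, MulAction.mem_stabilizer_iff, hsmul']
    let qT : T →* ↥(MulAction.stabilizer (G ⧸ Q) v) :=
      (q.comp T.subtype).codRestrict _ (fun x => (hqT x).2 x.2)
    have hqTs : Function.Surjective qT := by
      rintro ⟨x, hx⟩
      obtain ⟨g, rfl⟩ := hq x
      exact ⟨⟨g, (hqT g).1 hx⟩, rfl⟩
    obtain ⟨ν, hν⟩ := exists_nu A hμl hμZ hwtr T hT hYT
    have h1 : IsIrrCharacter T (fun x => (ν x : ℂ) * (χ ∘ qT) x) :=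
      isIrr_mul_lf ν (isIrr_comp qT hqTs hχ)
    have hrel := (rel_A A (μ * w) (hlam w hwtr)).inertia Y (isIrr_lf (μ * w)) T hT hYT
    letI := Fintype.ofFinite Y
    have h2 : Over (Subgroup.inclusion hYT) (fun x => (ν x : ℂ) * (χ ∘ qT) x) (lf (μ * w)) := by
      rw [over_iff]
      have e : (fun x => (ν x : ℂ) * (χ ∘ qT) x) ∘ (Subgroup.inclusion hYT) = χ 1 • lf (μ * w) := by
        funext y
        have h3 : χ (qT (Subgroup.inclusion hYT y)) = χ 1 * μ y := by
          have h4 := hχN (q y) ((hqN y).2 (A.YC y.2)) ((hqT y).2 (hYT y.2))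
          rw [hφμ] at h4
          exact h4
        change ((ν (Subgroup.inclusion hYT y) : ℂˣ) : ℂ) * χ (qT (Subgroup.inclusion hYT y)) =
          χ 1 * ((μ y * w y : ℂˣ) : ℂ)
        rw [h3, hν, Units.val_mul]
        ring
      rw [e, classInner_smul_left, classInner_irr_self (isIrr_lf (μ * w)), mul_one]
      exact isIrr_apply_one_ne_zero hχ
    refine hrel _ h1 h2 ?_
    rw [charDegree_lf, mul_one]
    have h3 : charDegree (fun x => (ν x : ℂ) * (χ ∘ qT) x) = charDegree χ := by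
      rw [Blocks.Basic.charDegree_def, Blocks.Basic.charDegree_def]
      simp [Function.comp]
    rw [h3]
    exact hd
  refine ⟨G ⧸ Q, Additive (tr Z Y), inferInstance, inferInstance, inferInstance, inferInstance,
    act, K.map q, N, φ, ?_⟩
  refine ⟨A.min.odd, hperf, hnK, hKt, hmaxK, hsimp, hna, hpK, hpS, ?_, hcen, hNK, ?_, hinj, ?_, ?_,
    ?_, ?_, ?_, hP2⟩
  · -- abelian Sylow subgroups
    intro P a ha b hb
    obtain ⟨a, rfl⟩ := hq a
    obtain ⟨b, rfl⟩ := hq b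
    have h1 : IsPGroup p ((P : Subgroup (G ⧸ Q)).comap q) := by
      refine IsPGroup.comap_of_ker_isPGroup P.isPGroup' q ?_
      rw [hkq]
      exact A.Qp
    have h2 : ⁅a, b⁆ ∈ Y := AbP.iff.1 (A.min.up Y hYn A.ZY) _ h1 a ha b hb
    have h3 : ⁅a, b⁆ ∈ (P : Subgroup (G ⧸ Q)).comap q := by
      rw [commutatorElement_def]
      exact mul_mem (mul_mem (mul_mem ha hb) (inv_mem ha)) (inv_mem hb)
    obtain ⟨k, hk⟩ := h1 ⟨_, h3⟩
    have h4 : ⁅a, b⁆ ∈ Q := mem_Q_of_p A (A.YC h2) (congrArg Subtype.val hk)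
    have h5 := (hq1 _).2 h4
    rw [map_commutatorElement] at h5
    exact commutatorElement_eq_one_iff_mul_comm.1 h5
  · -- `N ≠ ⊥`
    intro hN
    obtain ⟨P, hP⟩ := hIM (G := G ⧸ Q) (by
      intro χ hχ hd
      have hst : MulAction.stabilizer (G ⧸ Q) (0 : Additive (tr Z Y)) = ⊤ := by
        rw [eq_top_iff]
        intro g _
        rw [MulAction.mem_stabilizer_iff, smul_zero]
      let e : ↥(MulAction.stabilizer (G ⧸ Q) (0 : Additive (tr Z Y))) →* G ⧸ Q := Subgroup.subtype _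
      have he : Function.Surjective e := by
        intro g
        exact ⟨⟨g, by rw [hst]; trivial⟩, rfl⟩
      refine hP2 0 (χ ∘ e) (isIrr_comp e he hχ) ?_ ?_
      · intro n hn hn'
        have h1 : n = 1 := by
          rw [hN] at hn
          exact hn
        subst h1
        have h2 : (⟨1, hn⟩ : N) = 1 := rfl
        rw [h2, map_one, Units.val_one, mul_one]
        rfl
      · rw [charDegree_comp_one]
        exact hd)
    by_cases hPt : (P : Subgroup (G ⧸ Q)) = ⊤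
    · apply hna
      have h1 : IsPGroup p (G ⧸ Q) := by
        have := P.isPGroup'
        rw [hPt] at this
        exact this.of_surjective (Subgroup.topEquiv (G := G ⧸ Q)).toMonoidHom
          (Subgroup.topEquiv (G := G ⧸ Q)).surjective
      haveI := h1.isNilpotent
      haveI : Group.IsSolvable ((G ⧸ Q) ⧸ (K.map q)) := inferInstance
      have h2 := (IsSimpleGroup.comm_iff_isSolvable (G := (G ⧸ Q) ⧸ (K.map q))).2 inferInstance
      exact ⟨⟨h2⟩⟩
    · have h1 := hmaxK _ hP hPt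
      have h2 : p ∣ Nat.card (P : Subgroup (G ⧸ Q)) := by
        apply P.dvd_card_of_dvd_card
        exact hpS.trans (Subgroup.card_quotient_dvd_card _)
      exact hpK (h2.trans (Subgroup.card_dvd_of_le h1))
  · -- exponent
    intro v
    apply Subtype.ext
    ext y
    have h1 : ∀ n : ℕ, (((n • v : Additive (tr Z Y)).toMul : tr Z Y) : Y →* ℂˣ) y =
        ((v.toMul : tr Z Y) : Y →* ℂˣ) y ^ n := by
      intro n
      induction n with
      | zero => rw [zero_smul, pow_zero]; rfl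
      | succ n ih => rw [succ_nsmul, pow_succ, ← ih]; rfl
    have h2 := h1 p
    rw [exp_A A v.toMul.2 y] at h2
    exact congrArg Units.val h2
  · -- nontrivial
    haveI := nt_A A
    infer_instance
  · -- kernel
    intro h
    obtain ⟨g, rfl⟩ := hq h
    rw [hqN, ← ker_A A g]
    constructor
    · intro h v hv
      exact (hsmul' g (Additive.ofMul ⟨v, hv⟩)).1 (h _)
    · intro h v
      exact (hsmul' g v).2 (h _ v.toMul.2)
  · -- irreducible
    intro W hW
    let W' : Subgroup (Y →* ℂˣ) :=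
      { carrier := {v | ∃ h : v ∈ tr Z Y, Additive.ofMul (⟨v, h⟩ : tr Z Y) ∈ W}
        one_mem' := ⟨one_mem _, W.zero_mem⟩
        mul_mem' := by
          rintro a b ⟨ha, h1⟩ ⟨hb, h2⟩
          exact ⟨mul_mem ha hb, W.add_mem h1 h2⟩
        inv_mem' := by
          rintro a ⟨ha, h1⟩
          exact ⟨inv_mem ha, W.neg_mem h1⟩ }
    have hW' : W' ≤ tr Z Y := fun v hv => hv.1
    have hst : ∀ g : G, ∀ w ∈ W', cj g w ∈ W' := by
      rintro g w ⟨hw, h1⟩
      exact ⟨cj_mem_tr hZn g hw, hW (q g) _ h1⟩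
    rcases irr_A A hW' hst with h | h
    · left
      rw [eq_bot_iff]
      intro v hv
      have h1 : (v.toMul : Y →* ℂˣ) ∈ W' := ⟨v.toMul.2, hv⟩
      rw [h, Subgroup.mem_bot] at h1
      rw [AddSubgroup.mem_bot]
      exact Subtype.ext h1
    · right
      rw [eq_top_iff]
      intro v _
      have h1 : (v.toMul : Y →* ℂˣ) ∈ W' := by rw [h]; exact v.toMul.2
      exact h1.2
  · -- P1
    intro v hd
    set w : Y →* ℂˣ := ((v.toMul : tr Z Y) : Y →* ℂˣ) with hw
    have h1 := (rel_A A (μ * w) (hlam w v.toMul.2)).not_dvd_index Y (isIrr_lf (μ * w))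
    apply h1
    have h2 : inertia Y (lf (μ * w)) = (MulAction.stabilizer (G ⧸ Q) v).comap q := by
      ext g
      rw [hinj', Subgroup.mem_comap, MulAction.mem_stabilizer_iff, hsmul']
    rw [h2, Subgroup.index_comap_of_surjective _ hq]
    exact hd

/-- Case A does not occur. -/
theorem false_of_caseA (hIM : H37.NX.IM.{u} p) (hC : NoCoreP.{u} p) (A : CaseA p Z Y C Q K l)
    (hsup : ∀ L : Subgroup G, L.Normal → L ⊔ Z = ⊤ → L = ⊤) : False := by
  obtain ⟨H, V, _, _, _, _, _, K', N, φ, h⟩ := coreP_of_caseA hIM A hsup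
  exact hC K' N φ h

end main

/-- **The two cases together.** -/
theorem noMinX_of {p : ℕ} [hp : Fact p.Prime] (hIM : H37.NX.IM.{u} p) (hC : NoCoreP.{u} p)
    (hB : ∀ {G : Type u} [Group G] [Finite G] (Z Y : Subgroup G) (l : Z →* ℂˣ), CaseB p Z Y l →
      (∀ L : Subgroup G, L.Normal → L ⊔ Z = ⊤ → L = ⊤) → False) : NoMinX.{u} p := by
  refine H696.RIM.noMinX_of_perf ?_
  intro G _ _ Z l M hsup
  rcases M.exists_case with ⟨Y, C, Q, K, A⟩ | ⟨Y, B⟩
  · exact false_of_caseA hIM hC A hsup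
  · exact hB Z Y l B hsup

end Cfsg.Agent.H586.RIM
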