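import Cfsg.Agent.H586.RIM.EndTwo
import Cfsg.Agent.H159.RIM.Push
import Cfsg.Agent.H229.RIM.TriB
import Cfsg.Agent.H229.RIM.Top
import Cfsg.Agent.H20.RIM.Qpe

/-!
# S4816: the assembly of layer (B) (helper586)

* `false_one`: one layer with central `X` gives `¬ NBall p (H ⧸ K)`;
* `layerBP_five`, `layerBP_three`: `LayerBP p` from the numerical statements (route A).
-/

set_option autoImplicit false
set_option linter.unusedSectionVars false
set_option linter.style.haveILetI false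

open Cfsg
open scoped commutatorElement Pointwise

namespace Cfsg.Agent.H586.RIM

open Cfsg.Agent.H229.RIM Cfsg.Agent.H665.RIM Cfsg.Agent.H263.RIM
open Cfsg.Agent.H511.Wt MulAction Cfsg.Agent.H229.NX
open Cfsg.Agent.H20.NX (ExtraSp mem_center_of_perfect)
open Cfsg.Agent.Schreier.Basic (Sch)

universe u

/-- **one layer** -/
theorem false_one {p : ℕ} [hp : Fact p.Prime] (him : Cfsg.Agent.H37.NX.IM.{u} p) {H V : Type u} [Group H] [Finite H]
    [AddCommGroup V] [Finite V] [DistribMulAction H V] {K N : Subgroup H} {φ : N →* ℂˣ}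
    (C : CoreP (V := V) p K N φ) (hni : ¬ ImpP H V) {E : Subgroup H} (hE : ExtraSp K E)
    (hX : ∀ k ∈ K, ∀ h : H, ∀ e ∈ E, ⁅⁅k, h⁆, e⁆ ∈ Subgroup.center H)
    (hD : ∀ h : H, (∀ e ∈ E, ⁅h, e⁆ ∈ N) → h ∈ Subgroup.center H) [K.Normal]
    (hNB : NBall.{u} p (H ⧸ K)) : False := by
  haveI := hE.nE
  haveI : (E ⊔ Subgroup.center H).Normal := inferInstance
  have hcK : Subgroup.center H ≤ K := by
    refine C.maxK _ inferInstance ?_
    intro h
    apply C.Kt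
    rw [eq_top_iff, ← C.perf, commutator_def, Subgroup.commutator_le]
    intro a _ b _
    have h1 : a ∈ Subgroup.center H := by rw [h]; trivial
    rw [commutatorElement_eq_one_iff_mul_comm.2 (Subgroup.mem_center_iff.1 h1 b).symm]
    exact one_mem K
  have hNL : N ≤ E ⊔ Subgroup.center H := C.cen.trans le_sup_right
  obtain ⟨ψ, hψ, hinv, hov⟩ := exists_psi_one C hni hE hNL
  haveI := C.simp
  exact Cfsg.Agent.H159.RIM.push him C.perf C.cen hNL (sup_le hE.EK hcK) (bad_of_core C) C.pK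
    (one_comm C hni hE hX hD) hψ hinv hov C.na C.pS hNB

/-- the image of `K` in `Y` is central -/
theorem comm_of_central {H Y : Type*} [Group H] [Group Y] {K E : Subgroup H} {π : H →* Y}
    (hs : Function.Surjective π)
    (hker : ∀ k : H, π k = 1 ↔ ∀ e ∈ E, ⁅k, e⁆ ∈ Subgroup.center H) (hc : K.map π ≤ Subgroup.center Y) :
    ∀ k ∈ K, ∀ h : H, ∀ e ∈ E, ⁅⁅k, h⁆, e⁆ ∈ Subgroup.center H := by
  intro k hk h
  rw [← hker, map_commutatorElement]
  exact commutatorElement_eq_one_iff_mul_comm.2 (Subgroup.mem_center_iff.1 (hc ⟨k, hk, rfl⟩) (π h)).symm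

theorem central_of_comm {H Y : Type*} [Group H] [Group Y] {K E : Subgroup H} {π : H →* Y}
    (hs : Function.Surjective π)
    (hker : ∀ k : H, π k = 1 ↔ ∀ e ∈ E, ⁅k, e⁆ ∈ Subgroup.center H)
    (h : ∀ k ∈ K, ∀ h : H, ∀ e ∈ E, ⁅⁅k, h⁆, e⁆ ∈ Subgroup.center H) : K.map π ≤ Subgroup.center Y := by
  rintro _ ⟨k, hk, rfl⟩
  rw [Subgroup.mem_center_iff]
  intro y
  obtain ⟨x, rfl⟩ := hs y
  have h1 := (hker _).2 (h k hk x)
  rw [map_commutatorElement] at h1
  exact (commutatorElement_eq_one_iff_mul_comm.1 h1).symm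

/-- `p ≠ 3` -/
theorem layerBP_five {p : ℕ} [hp : Fact p.Prime]
    (h5 : ∀ {s n f : ℕ} {Y U G W : Type u} [Group Y] [Finite Y] [AddCommGroup U] [Finite U] [DistribMulAction Y U]
      [Group G] [Finite G] [AddCommGroup W] [Finite W] [DistribMulAction G W] {X : Subgroup Y} {B : U → U → ZMod s}
      {L Z : Subgroup G} {π : G →* Y} {a : L →* Multiplicative U},
      SP p s n f X B → LP (W := W) p s n f L Z π a B → False) : LayerBP.{u} p := by
  intro H V _ _ _ _ _ K N φ C hni _ E hE hEK hEc hmin hcls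
  have hX : ExtraSp K E :=
    { nE := hE
      EK := hEK
      nc := hEc
      min := fun M hM hME hne => hmin M hM (lt_of_le_of_ne hME hne)
      cls := fun a ha b hb => hcls (Subgroup.commutator_mem_commutator ha hb) }
  obtain ⟨s, n, f, U, Y, _, _, _, _, _, B, π, -, hSP, -, -, -, G, W, _, _, _, _, _, L, Z, π₀, a, hLP⟩ :=
    Cfsg.Agent.H20.RIM.struct_BP C hX (Cfsg.Agent.H20.RIM.qpe_of_not_impP C hni E)
  exact h5 hSP hLP

/-- `p = 3`, route A -/
theorem layerBP_three (P : Pow)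
    (hSch : ∀ (S : Type u) [Group S] [Finite S], IsSimpleGroup S → ¬ IsMulCommutative S → Sch S)
    (him : Cfsg.Agent.H37.NX.IM.{u} 3)
    (hX : ∀ {s n f : ℕ} {Y U G W : Type u} [Group Y] [Finite Y] [AddCommGroup U] [Finite U] [DistribMulAction Y U]
      [Group G] [Finite G] [AddCommGroup W] [Finite W] [DistribMulAction G W] {X : Subgroup Y} {B : U → U → ZMod s}
      {L Z : Subgroup G} {π : G →* Y} {a : L →* Multiplicative U},
      SP 3 s n f X B → LP (W := W) 3 s n f L Z π a B → s = 2 ∧ n ≤ 5 ∧ X ≤ Subgroup.center Y)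
    (Bd : ∀ (S : Type u) [Group S], Prop)
    (hBd : ∀ (S T : Type u) [Group S] [Group T], (S ≃* T) → Bd S → Bd T)
    (hrow : ∀ (S : Type u) [Group S] [Finite S], IsSimpleGroup S → ¬ IsMulCommutative S → 3 ∣ Nat.card S →
      AbSyl 3 S → NBall.{u} 3 S ∨ Bd S)
    (hS : ∀ {n f : ℕ} {Y U G W : Type u} [Group Y] [Finite Y] [AddCommGroup U] [Finite U] [DistribMulAction Y U]
      [Group G] [Finite G] [AddCommGroup W] [Finite W] [DistribMulAction G W] {X : Subgroup Y} [X.Normal]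
      {B : U → U → ZMod 2} {L Z : Subgroup G} {π : G →* Y} {a : L →* Multiplicative U},
      SP 3 2 n f X B → LP (W := W) 3 2 n f L Z π a B → n ≤ 5 → X ≤ Subgroup.center Y → Bd (Y ⧸ X) → False)
    (hT : ∀ {n₁ n₂ f₁ f₂ f : ℕ} {Y₁ U₁ Y₂ U₂ Y U : Type u} [Group Y₁] [Finite Y₁] [AddCommGroup U₁] [Finite U₁]
      [DistribMulAction Y₁ U₁] [Group Y₂] [Finite Y₂] [AddCommGroup U₂] [Finite U₂]
      [DistribMulAction Y₂ U₂] [Group Y] [Finite Y] [AddCommGroup U] [Finite U]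
      [DistribMulAction Y U] {X₁ : Subgroup Y₁} {B₁ : U₁ → U₁ → ZMod 2} {X₂ : Subgroup Y₂} {B₂ : U₂ → U₂ → ZMod 2}
      {X : Subgroup Y} {B : U → U → ZMod 2}, SP 3 2 n₁ f₁ X₁ B₁ → SP 3 2 n₂ f₂ X₂ B₂ →
      SP0 3 2 (n₁ + n₂) f X B → n₁ ≤ 5 → n₂ ≤ 5 → X₁ ≤ Subgroup.center Y₁ → X₂ ≤ Subgroup.center Y₂ →
      X ≤ Subgroup.center Y → Nat.card (Y₁ ⧸ X₁) = Nat.card (Y ⧸ X) → Nat.card (Y₂ ⧸ X₂) = Nat.card (Y ⧸ X) →
      False) : LayerBP.{u} 3 := by
  haveI : Fact (Nat.Prime 3) := ⟨by norm_num⟩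
  intro H V _ _ _ _ _ K N φ C hni _ E hE hEK hEc hmin hcls
  haveI hKn := C.nK
  have hXE : ExtraSp K E :=
    { nE := hE
      EK := hEK
      nc := hEc
      min := fun M hM hME hne => hmin M hM (lt_of_le_of_ne hME hne)
      cls := fun a ha b hb => hcls (Subgroup.commutator_mem_commutator ha hb) }
  obtain ⟨s, n, f, U, Y, _, _, _, _, _, B, π, hs, hSP, hker, ⟨i1, i2, ⟨e⟩⟩, hcard, G, W, _, _, _, _, _, L, Z, π₀, a,
    hLP⟩ := Cfsg.Agent.H20.RIM.struct_BP C hXE (Cfsg.Agent.H20.RIM.qpe_of_not_impP C hni E)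
  obtain ⟨rfl, hn, hc⟩ := hX hSP hLP
  have hcomm := comm_of_central hs hker hc
  rcases hrow (H ⧸ K) C.simp C.na C.pS C.absyl with hNB | hB
  swap
  · exact hS hSP hLP hn hc (hBd _ _ e.symm hB)
  by_cases hD : ∀ h : H, (∀ e ∈ E, ⁅h, e⁆ ∈ N) → h ∈ Subgroup.center H
  · exact false_one him C hni hXE hcomm hD hNB
  -- a second layer
  obtain ⟨M, hXM, hEM⟩ := exists_second C hXE (by
    intro M hM hMK hMc hMmin
    by_contra hcon
    exact false_of_noncls P hSch C hni hM hMK hMc hMmin hcon) hD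
  obtain ⟨s', n', f', U', Y', _, _, _, _, _, B', π', hs', hSP', hker', ⟨i1', i2', ⟨e'⟩⟩, hcard', G', W', _, _, _, _, _,
    L', Z', π₀', a', hLP'⟩ := Cfsg.Agent.H20.RIM.struct_BP C hXM (Cfsg.Agent.H20.RIM.qpe_of_not_impP C hni M)
  obtain ⟨rfl, hn', hc'⟩ := hX hSP' hLP'
  have hcomm' := comm_of_central hs' hker' hc'
  -- squares
  have hsq : ∀ (n₀ f₀ : ℕ) (F : Subgroup H) (hF : ExtraSp K F) (U₀ Y₀ : Type u) [AddCommGroup U₀] [Finite U₀]
      [Group Y₀] [Finite Y₀] [DistribMulAction Y₀ U₀] (B₀ : U₀ → U₀ → ZMod 2) (X₀ : Subgroup Y₀),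
      SP 3 2 n₀ f₀ X₀ B₀ → Nat.card U₀ = ((Subgroup.center H).subgroupOf F).index →
      ∀ l ∈ F, l ^ 2 ∈ Subgroup.center H := by
    intro n₀ f₀ F hF U₀ Y₀ _ _ _ _ _ B₀ X₀ hSP₀ hcard₀
    obtain ⟨r, hr, hrc⟩ := Cfsg.Agent.H20.RIM.exists_s hF
    have hr2 : r = 2 := by
      by_contra hne
      have h1 : ∀ l ∈ F, l ∈ Subgroup.center H := by
        intro l hl
        have h2 : (⟨l, hl⟩ : F) ^ ((Subgroup.center H).subgroupOf F).index ∈ (Subgroup.center H).subgroupOf F :=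
          Subgroup.pow_index_mem _ _
        rw [← hcard₀, hSP₀.card] at h2
        have h3 : l ^ 2 ^ (2 * n₀) ∈ Subgroup.center H := h2
        refine mem_of_pow (n := r) (m := 2 ^ (2 * n₀)) ?_ (hrc l hl) h3
        exact Nat.Coprime.pow_right _ ((Nat.coprime_primes hr Nat.prime_two).2 hne)
      exact hF.nc h1
    rw [hr2] at hrc
    exact hrc
  have hsqE := hsq n f E hXE U Y B _ hSP hcard
  have hsqM := hsq n' f' M hXM U' Y' B' _ hSP' hcard'
  haveI := hXE.nE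
  haveI := hXM.nE
  obtain ⟨n₃, f₃, U₃, Y₃, _, _, _, _, _, B₃, π₃, hs₃, hSP₃, hker₃, -, ⟨i1₃, i2₃, ⟨e₃⟩⟩, hcard₃, -⟩ :=
    Cfsg.Agent.H20.RIM.struct_L C (E := E ⊔ M) inferInstance (sup_le hXE.EK hXM.EK)
      (fun h => hXE.nc (le_sup_left.trans h)) (fun a ha b hb => two_cls C hXE hXM hEM ha hb) Nat.prime_two
      (two_pow C hXE hXM hEM hsqE hsqM) (Cfsg.Agent.H20.RIM.qpe_of_not_impP C hni _)
  have hc₃ : K.map π₃ ≤ Subgroup.center Y₃ := central_of_comm hs₃ hker₃ (two_X hXM hcomm hcomm')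
  have hn₃ : n₃ = n + n' := by
    have h1 := two_index C hXE hXM hEM (ne_mod C hni hXE)
    have h2 : 2 ^ (2 * n₃) = 2 ^ (2 * n) * 2 ^ (2 * n') := by
      rw [← hSP₃.card, ← hSP.card, ← hSP'.card, hcard, hcard', hcard₃]
      exact h1
    rw [← pow_add] at h2
    have h3 := Nat.pow_right_injective (le_refl 2) h2
    omega
  subst hn₃
  exact hT hSP hSP' hSP₃ hn hn' hc hc' hc₃
    (by rw [Nat.card_congr e.toEquiv, Nat.card_congr e₃.toEquiv])
    (by rw [Nat.card_congr e'.toEquiv, Nat.card_congr e₃.toEquiv])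

end Cfsg.Agent.H586.RIM
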