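import Cfsg.Agent.H586.RIM.EndOne
import Cfsg.Agent.H20.NX.Basic

/-!
# S4816, layer (B): two layers (helper586)

* `exists_second`: if the centralizer of `E` modulo `N` is not central, there is a second minimal noncentral normal
  subgroup `M` of class two with `⁅M, E⁆ ≤ N`;
* `two_*`: properties of `L = E ⊔ M`.
-/

set_option autoImplicit false
set_option linter.unusedSectionVars false
set_option linter.style.haveILetI false

open Cfsg
open scoped commutatorElement Pointwise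

namespace Cfsg.Agent.H586.RIM

open Cfsg.Agent.H229.RIM
open Cfsg.Agent.H511.Wt MulAction Cfsg.Agent.H229.NX
open Cfsg.Agent.H20.NX (ExtraSp mem_center_of_perfect)

universe u

variable {p : ℕ} {H V : Type u} [Group H] [Finite H] [AddCommGroup V] [Finite V] [DistribMulAction H V]
  {K N E M : Subgroup H} {φ : N →* ℂˣ}

/-- a second layer -/
theorem exists_second (C : CoreP (V := V) p K N φ) (hE : ExtraSp K E)
    (hC : ∀ M : Subgroup H, M.Normal → M ≤ K → ¬ M ≤ Subgroup.center H →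
      (∀ M' : Subgroup H, M'.Normal → M' < M → M' ≤ Subgroup.center H) → ⁅M, M⁆ ≤ Subgroup.center H)
    (hD : ¬ ∀ h : H, (∀ e ∈ E, ⁅h, e⁆ ∈ N) → h ∈ Subgroup.center H) :
    ∃ M : Subgroup H, ExtraSp K M ∧ ∀ m ∈ M, ∀ e ∈ E, ⁅m, e⁆ ∈ N := by
  haveI := cm_normal (E := E) C.cen hE.nE
  have hDn : ¬ cm E N C.cen ≤ Subgroup.center H := fun h => hD fun x hx => h hx
  have hDt : cm E N C.cen ≠ ⊤ := by
    intro h
    apply hE.nc
    intro e he
    refine mem_center_of_perfect C.perf C.cen fun x => ?_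
    have h1 : x ∈ cm E N C.cen := by rw [h]; trivial
    rw [← commutatorElement_inv]
    exact N.inv_mem (h1 e he)
  have hDK := C.maxK _ inferInstance hDt
  obtain ⟨M, ⟨hMn, hMc, hMD⟩, hMmin⟩ := Set.Finite.exists_minimalFor (fun S : Subgroup H => S)
    {T : Subgroup H | T.Normal ∧ ¬ T ≤ Subgroup.center H ∧ T ≤ cm E N C.cen} (Set.toFinite _)
    ⟨cm E N C.cen, inferInstance, hDn, le_rfl⟩
  have hmin : ∀ M' : Subgroup H, M'.Normal → M' < M → M' ≤ Subgroup.center H := by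
    intro M' hM' hlt
    by_contra hc
    exact hlt.not_ge (hMmin ⟨hM', hc, hlt.le.trans hMD⟩ hlt.le)
  have hcls := hC M hMn (hMD.trans hDK) hMc hmin
  refine ⟨M, ⟨hMn, hMD.trans hDK, hMc, fun M' hM' h1 h2 => hmin M' hM' (lt_of_le_of_ne h1 h2), ?_⟩, ?_⟩
  · intro a ha b hb
    exact hcls (Subgroup.commutator_mem_commutator ha hb)
  · intro m hm e he
    exact hMD hm e he

section two

variable (C : CoreP (V := V) p K N φ) (hE : ExtraSp K E) (hM : ExtraSp K M)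
  (hEM : ∀ m ∈ M, ∀ e ∈ E, ⁅m, e⁆ ∈ N)

theorem exists_prod (hM : M.Normal) {l : H} (hl : l ∈ E ⊔ M) : ∃ e ∈ E, ∃ m ∈ M, l = e * m := by
  obtain ⟨e, he, m, hm, h1⟩ := Subgroup.mem_sup_of_normal_right.1 hl
  exact ⟨e, he, m, hm, h1.symm⟩

include C hE hM hEM in
theorem two_cls {a b : H} (ha : a ∈ E ⊔ M) (hb : b ∈ E ⊔ M) : ⁅a, b⁆ ∈ Subgroup.center H := by
  obtain ⟨e, he, m, hm, rfl⟩ := exists_prod hM.nE ha
  obtain ⟨e', he', m', hm', rfl⟩ := exists_prod hM.nE hb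
  have h1 : ∀ x ∈ M, ∀ y ∈ E, ⁅x, y⁆ ∈ Subgroup.center H := fun x hx y hy => C.cen (hEM x hx y hy)
  have h2 : ∀ x ∈ M, ∀ y ∈ E, ⁅y, x⁆ ∈ Subgroup.center H := fun x hx y hy => by
    rw [← commutatorElement_inv]
    exact (Subgroup.center H).inv_mem (h1 x hx y hy)
  have h3 : ⁅m, e' * m'⁆ ∈ Subgroup.center H := by
    rw [comm_mul_right (hM.cls m hm m' hm')]
    exact mul_mem (h1 m hm e' he') (hM.cls m hm m' hm')
  rw [comm_mul_left h3]
  refine mul_mem ?_ h3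
  rw [comm_mul_right (h2 m' hm' e he)]
  exact mul_mem (hE.cls e he e' he') (h2 m' hm' e he)

include hM in
/-- `⁅K, H⁆` acts trivially -/
theorem two_X (hXE : ∀ k ∈ K, ∀ h : H, ∀ e ∈ E, ⁅⁅k, h⁆, e⁆ ∈ Subgroup.center H)
    (hXM : ∀ k ∈ K, ∀ h : H, ∀ m ∈ M, ⁅⁅k, h⁆, m⁆ ∈ Subgroup.center H) :
    ∀ k ∈ K, ∀ h : H, ∀ l ∈ E ⊔ M, ⁅⁅k, h⁆, l⁆ ∈ Subgroup.center H := by
  intro k hk h l hl
  obtain ⟨e, he, m, hm, rfl⟩ := exists_prod hM.nE hl
  rw [comm_mul_right (hXM k hk h m hm)]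
  exact mul_mem (hXE k hk h e he) (hXM k hk h m hm)

include C hE hM hEM in
theorem two_pow {s : ℕ} (hsE : ∀ e ∈ E, e ^ s ∈ Subgroup.center H) (hsM : ∀ m ∈ M, m ^ s ∈ Subgroup.center H) :
    ∀ l ∈ E ⊔ M, l ^ s ∈ Subgroup.center H := by
  intro l hl
  obtain ⟨e, he, m, hm, rfl⟩ := exists_prod hM.nE hl
  have h1 : ⁅e, m⁆ ∈ Subgroup.center H := two_cls C hE hM hEM (Subgroup.mem_sup_left he) (Subgroup.mem_sup_right hm)
  exact pow_mem_of_quot h1 (hsE e he) (hsM m hm)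

include C hE hEM in
theorem two_disj {e m z : H} (he : e ∈ E) (hm : m ∈ M) (hz : z ∈ Subgroup.center H)
    (h : e = m * z) (hne : ∃ a ∈ E, ∃ b ∈ E, ⁅a, b⁆ ∉ N) : e ∈ Subgroup.center H := by
  refine mem_center_of_cm C.cen hE hne he fun e' he' => ?_
  have h1 : ⁅z, e'⁆ = 1 := commutatorElement_eq_one_iff_mul_comm.2 (Subgroup.mem_center_iff.1 hz e').symm
  rw [h, comm_mul_left (by rw [h1]; exact one_mem _), h1, mul_one]
  exact hEM m hm e' he'

include C hE hM hEM in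
/-- the index -/
theorem two_index (hne : ∃ a ∈ E, ∃ b ∈ E, ⁅a, b⁆ ∉ N) :
    (Subgroup.center H).relIndex (E ⊔ M) =
      (Subgroup.center H).relIndex E * (Subgroup.center H).relIndex M := by
  haveI := hE.nE
  haveI := hM.nE
  set Z := Subgroup.center H with hZ
  have h1 : Z.relIndex (E ⊔ M) = Z.relIndex (M ⊔ Z) * (M ⊔ Z).relIndex (E ⊔ (M ⊔ Z)) := by
    rw [← Subgroup.relIndex_sup_right (E ⊔ M) Z, sup_assoc]
    exact (Subgroup.relIndex_mul_relIndex Z (M ⊔ Z) (E ⊔ (M ⊔ Z)) le_sup_right le_sup_right).symm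
  rw [h1, Subgroup.relIndex_sup_right M Z, Subgroup.relIndex_sup_right E (M ⊔ Z), mul_comm]
  congr 1
  -- `(M Z) ∩ E = Z ∩ E`
  rw [← Subgroup.inf_relIndex_right (M ⊔ Z) E, ← Subgroup.inf_relIndex_right Z E]
  congr 1
  apply le_antisymm
  · rintro x ⟨hx, hxE⟩
    obtain ⟨m, hm, z, hz, h2⟩ := Subgroup.mem_sup_of_normal_right.1 hx
    exact ⟨two_disj C hE hEM hxE hm hz h2.symm hne, hxE⟩
  · exact inf_le_inf_right _ le_sup_right

end two

end Cfsg.Agent.H586.RIM
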