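import Mathlib
import Cfsg.Agent.H229.RIM.Tri
import Cfsg.Agent.H586.RIM.CoreOf
import Cfsg.Agent.H322.RIM.Nd
import Cfsg.Agent.H37.NW.Cov
import Cfsg.Agent.H37.NX.TripNum
import Cfsg.Agent.H20.NX.BDef

/-!
# S4816, layer (B), `p = 3`: the end (helper586)
-/

set_option autoImplicit false
set_option linter.unusedSectionVars false
set_option linter.style.haveILetI false

open Cfsg
open scoped commutatorElement Pointwise

namespace Cfsg.Agent.H586.RIM

open Cfsg.Agent.Characters.Core Cfsg.Agent.Characters.Clifford Cfsg.Agent.H672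
open Cfsg.Agent.H672.RM (over_lin_iff)
open Cfsg.Agent.H586.GW
open Cfsg.Agent.H229.RIM
open Cfsg.Agent.H511.Wt MulAction Cfsg.Agent.H229.NX

universe u

section cyc

variable {H V : Type*} [Group H] [Finite H] [AddCommGroup V] [Finite V] [DistribMulAction H V]

/-- A normal abelian subgroup of a primitive linear group is cyclic modulo the kernel. -/
theorem exists_gen_mod' (hirr : Irr H V) (hni : ¬ ImpP H V) {N : Subgroup H}
    (ker : ∀ h : H, (∀ v : V, h • v = v) ↔ h ∈ N) {M : Subgroup H} (hM : M.Normal)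
    (hab : ∀ a ∈ M, ∀ b ∈ M, ⁅a, b⁆ ∈ N) : ∃ g ∈ M, ∀ m ∈ M, ∃ k : ℤ, m * (g ^ k)⁻¹ ∈ N := by
  have hc : ∀ a ∈ RR V M, ∀ b ∈ RR V M, a * b = b * a := by
    intro a ha b hb
    refine commute_RR (M := M) (fun g hg => ?_) ha
    refine (commute_RR (M := M) (fun k hk => ?_) hb).symm
    apply DFunLike.ext
    intro v
    have h1 := (ker _).2 (hab k hk g hg) (g • k • v)
    rw [commutatorElement_def] at h1
    simp only [mul_smul, inv_smul_smul] at h1
    exact h1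
  have hF : IsField (RR V M) := isField_subring hirr hni (RR V M) hc (nrm_RR hM)
  let f : M →* RR V M :=
    { toFun := fun m => ⟨toE V (m : H), toE_mem_RR m.2⟩
      map_one' := Subtype.ext (map_one _)
      map_mul' := fun a b => Subtype.ext (map_mul _ _ _) }
  have hfk : ∀ m : M, f m = 1 → (m : H) ∈ N := by
    intro m h
    rw [← ker]
    intro v
    have h1 := congrArg Subtype.val h
    exact DFunLike.congr_fun h1 v
  obtain ⟨g, hg⟩ := @exists_gen_of_hom M (RR V M) _ _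
    { (inferInstance : Ring (RR V M)) with mul_comm := hF.mul_comm } hF.isDomain f
  refine ⟨g, g.2, fun m hm => ?_⟩
  obtain ⟨k, hk⟩ := hg ⟨m, hm⟩
  exact ⟨k, hfk _ hk⟩

/-- A normal abelian subgroup of a perfect primitive linear group is central. -/
theorem central_mod (hirr : Irr H V) (hni : ¬ ImpP H V) {N : Subgroup H} (perf : commutator H = ⊤)
    (cen : N ≤ Subgroup.center H) (ker : ∀ h : H, (∀ v : V, h • v = v) ↔ h ∈ N) {M : Subgroup H} (hM : M.Normal)
    (hab : ∀ a ∈ M, ∀ b ∈ M, ⁅a, b⁆ ∈ N) : M ≤ Subgroup.center H := by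
  haveI : N.Normal := by
    refine ⟨fun n hn g => ?_⟩
    have h := Subgroup.mem_center_iff.1 (cen hn) g
    rwa [h, mul_inv_cancel_right]
  obtain ⟨g, hg, hgen'⟩ := exists_gen_mod' hirr hni ker hM hab
  -- the centralizer of `M / N`
  let q := QuotientGroup.mk' N
  let C₀ : Subgroup H := (Subgroup.centralizer ({q g} : Set (H ⧸ N))).comap q
  have hC₀ : ∀ h, h ∈ C₀ ↔ q g * q h = q h * q g := by
    intro h
    rw [Subgroup.mem_comap, Subgroup.mem_centralizer_singleton_iff]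
    exact ⟨fun h => h.symm, fun h => h.symm⟩
  have hpow : ∀ h : H, ∃ k : ℤ, q h * q g * (q h)⁻¹ = q g ^ k := by
    intro h
    obtain ⟨k, hk⟩ := hgen' (h * g * h⁻¹) (hM.conj_mem g hg h)
    refine ⟨k, ?_⟩
    have h1 : q (h * g * h⁻¹ * (g ^ k)⁻¹) = 1 := (QuotientGroup.eq_one_iff _).2 hk
    rw [map_mul, map_inv, mul_inv_eq_one, map_mul, map_mul, map_inv, map_zpow] at h1
    exact h1
  have hcomm : ∀ a b : H, ⁅a, b⁆ ∈ C₀ := by
    intro a b
    rw [hC₀]
    obtain ⟨i, hi⟩ := hpow a⁻¹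
    obtain ⟨j, hj⟩ := hpow b⁻¹
    rw [map_inv, inv_inv] at hi hj
    have e1 : (q (b * a))⁻¹ * q g * q (b * a) = q g ^ (j * i) := by
      rw [map_mul, mul_inv_rev]
      calc (q a)⁻¹ * (q b)⁻¹ * q g * (q b * q a) = (q a)⁻¹ * ((q b)⁻¹ * q g * q b) * q a := by group
        _ = (q a)⁻¹ * (q g ^ j) * q a := by rw [hj]
        _ = ((q a)⁻¹ * q g * q a) ^ j := by
            have h := conj_zpow (i := j) (b := q g) (a := (q a)⁻¹)
            rw [inv_inv] at h
            exact h.symm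
        _ = q g ^ (j * i) := by rw [hi, ← zpow_mul, mul_comm]
    have e2 : (q (a * b))⁻¹ * q g * q (a * b) = q g ^ (j * i) := by
      rw [map_mul, mul_inv_rev]
      calc (q b)⁻¹ * (q a)⁻¹ * q g * (q a * q b) = (q b)⁻¹ * ((q a)⁻¹ * q g * q a) * q b := by group
        _ = (q b)⁻¹ * (q g ^ i) * q b := by rw [hi]
        _ = ((q b)⁻¹ * q g * q b) ^ i := by
            have h := conj_zpow (i := i) (b := q g) (a := (q b)⁻¹)
            rw [inv_inv] at h
            exact h.symm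
        _ = q g ^ (j * i) := by rw [hj, ← zpow_mul]
    have h1 : ⁅a, b⁆ = (a * b) * (b * a)⁻¹ := by rw [commutatorElement_def]; group
    rw [h1, map_mul, map_inv]
    have e3 : q g * q (a * b) = q (a * b) * q g ^ (j * i) := by
      rw [← e2]; group
    have e5 : (q (b * a))⁻¹ * q g = q g ^ (j * i) * (q (b * a))⁻¹ := by
      rw [← e1]; group
    rw [← mul_assoc, e3, mul_assoc, mul_assoc, ← e5]
  have htop : C₀ = ⊤ := by
    rw [eq_top_iff, ← perf, commutator_def, Subgroup.commutator_le]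
    exact fun a _ b _ => hcomm a b
  intro m hm
  refine Cfsg.Agent.H20.NX.mem_center_of_perfect perf cen fun k => ?_
  obtain ⟨i, hi⟩ := hgen' m hm
  have h1 : q m = q g ^ i := by
    have h := (QuotientGroup.eq_one_iff _).2 hi
    change q (m * (g ^ i)⁻¹) = 1 at h
    rw [map_mul, map_inv, mul_inv_eq_one, map_zpow] at h
    exact h
  have h2 := (hC₀ k).1 (by rw [htop]; trivial)
  have h3 : Commute (q m) (q k) := by
    rw [h1]
    exact (show Commute (q g) (q k) from h2).zpow_left i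
  have h4 : q ⁅m, k⁆ = 1 := by
    rw [map_commutatorElement, commutatorElement_eq_one_iff_commute]
    exact h3
  exact (QuotientGroup.eq_one_iff _).1 h4

theorem exists_faithful {C : Type*} [Group C] [Finite C] [IsCyclic C] :
    ∃ f : C →* ℂˣ, Function.Injective f := by
  obtain ⟨g, hg⟩ := IsCyclic.exists_generator (α := C)
  have hn : orderOf g ≠ 0 := (orderOf_pos g).ne'
  have hp := Complex.isPrimitiveRoot_exp (orderOf g) hn
  have hu := hp.isUnit hn
  obtain ⟨z, hz⟩ := hu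
  have hz' : orderOf z = orderOf g := by
    rw [← orderOf_units, hz]
    exact hp.eq_orderOf.symm
  refine ⟨monoidHomOfForallMemZpowers hg hz'.dvd, ?_⟩
  rw [injective_iff_map_eq_one]
  intro x hx
  obtain ⟨k, rfl⟩ := Subgroup.mem_zpowers_iff.1 (hg x)
  rw [map_zpow, monoidHomOfForallMemZpowers_apply_gen] at hx
  rw [← orderOf_dvd_iff_zpow_eq_one] at hx ⊢
  rwa [hz'] at hx

/-- A character of the centre with kernel `N`. -/
theorem exists_eps (hirr : Irr H V) (hni : ¬ ImpP H V) {N : Subgroup H}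
    (ker : ∀ h : H, (∀ v : V, h • v = v) ↔ h ∈ N) :
    ∃ ε : Subgroup.center H →* ℂˣ, ∀ (z : H) (hz : z ∈ Subgroup.center H), ε ⟨z, hz⟩ = 1 ↔ z ∈ N := by
  obtain ⟨g, hg, hgen⟩ := exists_gen_mod' hirr hni ker (M := Subgroup.center H) inferInstance (by
    intro a ha b _
    rw [commutatorElement_eq_one_iff_mul_comm.2 (Subgroup.mem_center_iff.1 ha b).symm]
    exact one_mem _)
  let N' : Subgroup (Subgroup.center H) := N.subgroupOf (Subgroup.center H)
  haveI : N'.Normal := inferInstance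
  haveI : IsCyclic (Subgroup.center H ⧸ N') := by
    refine ⟨⟨((⟨g, hg⟩ : Subgroup.center H) : Subgroup.center H ⧸ N'), fun x => ?_⟩⟩
    obtain ⟨x, rfl⟩ := QuotientGroup.mk_surjective x
    obtain ⟨k, hk⟩ := hgen x x.2
    refine Subgroup.mem_zpowers_iff.2 ⟨k, ?_⟩
    rw [← QuotientGroup.mk_zpow, QuotientGroup.eq]
    have h1 : (x : H) * (g ^ k)⁻¹ = (g ^ k)⁻¹ * x :=
      (Subgroup.mem_center_iff.1 x.2 ((g ^ k)⁻¹)).symm
    rw [h1] at hk
    exact hk
  obtain ⟨f, hf⟩ := exists_faithful (C := Subgroup.center H ⧸ N')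
  refine ⟨f.comp (QuotientGroup.mk' N'), fun z hz => ?_⟩
  rw [MonoidHom.comp_apply]
  constructor
  · intro h
    have h1 : QuotientGroup.mk' N' ⟨z, hz⟩ = 1 := hf (by rw [h, map_one])
    have h2 : (⟨z, hz⟩ : Subgroup.center H) ∈ N' := (QuotientGroup.eq_one_iff _).1 h1
    exact h2
  · intro h
    have h1 : QuotientGroup.mk' N' ⟨z, hz⟩ = 1 :=
      (QuotientGroup.eq_one_iff _).2 (show (⟨z, hz⟩ : Subgroup.center H) ∈ N' from h)
    rw [h1, map_one]

end cyc

section cm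

variable {H : Type*} [Group H]

theorem exists_ext [Finite H] {B C : Subgroup H} (hBC : B ≤ C) (hC : ∀ a ∈ C, ∀ b ∈ C, a * b = b * a)
    (l : B →* ℂˣ) : ∃ m : C →* ℂˣ, ∀ b (hb : b ∈ B), m ⟨b, hBC hb⟩ = l ⟨b, hb⟩ := by
  letI : CommGroup C :=
    { (inferInstance : Group C) with mul_comm := fun a b => Subtype.ext (hC a a.2 b b.2) }
  let e := Subgroup.subgroupOfEquivOfLe hBC
  obtain ⟨m, hm⟩ := MonoidHom.domRestrict_surjective (M := ℂ) (B.subgroupOf C) (l.comp e.toMonoidHom)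
  refine ⟨m, fun b hb => ?_⟩
  have h1 := DFunLike.congr_fun hm (⟨⟨b, hBC hb⟩, hb⟩ : B.subgroupOf C)
  exact h1

theorem comm_mul_right {a x y : H} (h : ⁅a, y⁆ ∈ Subgroup.center H) : ⁅a, x * y⁆ = ⁅a, x⁆ * ⁅a, y⁆ := by
  have h1 : ⁅a, x * y⁆ = ⁅a, x⁆ * (x * ⁅a, y⁆ * x⁻¹) := by
    simp only [commutatorElement_def]; group
  rw [h1, Subgroup.mem_center_iff.1 h x, mul_inv_cancel_right]

theorem comm_mul_left {a x y : H} (h : ⁅y, a⁆ ∈ Subgroup.center H) : ⁅x * y, a⁆ = ⁅x, a⁆ * ⁅y, a⁆ := by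
  have h1 : ⁅x * y, a⁆ = (x * ⁅y, a⁆ * x⁻¹) * ⁅x, a⁆ := by
    simp only [commutatorElement_def]; group
  rw [h1, Subgroup.mem_center_iff.1 h x, mul_inv_cancel_right, ← Subgroup.mem_center_iff.1 h]

theorem comm_inv_left {a x : H} (h : ⁅x, a⁆ ∈ Subgroup.center H) : ⁅x⁻¹, a⁆ = ⁅x, a⁆⁻¹ := by
  have h1 : ⁅x⁻¹, a⁆ = x⁻¹ * ⁅x, a⁆⁻¹ * x := by
    simp only [commutatorElement_def]; group
  have h2 := Subgroup.mem_center_iff.1 ((Subgroup.center H).inv_mem h) x⁻¹
  rw [h1, h2, inv_mul_cancel_right]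

/-- the centralizer of `E` modulo a central subgroup `A` -/
def cm (E A : Subgroup H) (hA : A ≤ Subgroup.center H) : Subgroup H where
  carrier := {h | ∀ e ∈ E, ⁅h, e⁆ ∈ A}
  one_mem' := fun e _ => by rw [commutatorElement_one_left]; exact one_mem _
  mul_mem' := by
    intro a b ha hb e he
    rw [comm_mul_left (hA (hb e he))]
    exact A.mul_mem (ha e he) (hb e he)
  inv_mem' := by
    intro a ha e he
    rw [comm_inv_left (hA (ha e he))]
    exact A.inv_mem (ha e he)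

theorem mem_cm {E A : Subgroup H} {hA : A ≤ Subgroup.center H} {h : H} :
    h ∈ cm E A hA ↔ ∀ e ∈ E, ⁅h, e⁆ ∈ A := Iff.rfl

theorem cm_normal {E A : Subgroup H} (hA : A ≤ Subgroup.center H) (hE : E.Normal) : (cm E A hA).Normal := by
  refine ⟨fun x hx g e he => ?_⟩
  have h1 := hx (g⁻¹ * e * g) (by
    have := hE.conj_mem e he g⁻¹
    rwa [inv_inv] at this)
  have h2 : ⁅g * x * g⁻¹, e⁆ = g * ⁅x, g⁻¹ * e * g⁆ * g⁻¹ := by
    simp only [commutatorElement_def]; group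
  rw [h2, Subgroup.mem_center_iff.1 (hA h1) g, mul_inv_cancel_right]
  exact h1

end cm

section one

open Cfsg.Agent.H20.NX (ExtraSp)

variable {H : Type u} [Group H] [Finite H] {K N E : Subgroup H}

/-- nondegeneracy -/
theorem mem_center_of_cm {A : Subgroup H} (hA : A ≤ Subgroup.center H) (hE : ExtraSp K E)
    (h : ∃ a ∈ E, ∃ b ∈ E, ⁅a, b⁆ ∉ A) {a : H} (ha : a ∈ E) (ha' : ∀ e ∈ E, ⁅a, e⁆ ∈ A) :
    a ∈ Subgroup.center H := by
  haveI := hE.nE
  haveI := cm_normal hA hE.nE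
  refine hE.min (E ⊓ cm E A hA) inferInstance inf_le_left ?_ ⟨ha, ha'⟩
  intro heq
  obtain ⟨a, ha, b, hb, hab⟩ := h
  rw [← heq] at ha
  exact hab (ha.2 b hb)

/-- the elements acting trivially on `E / Z` are in `E Z`, if the centralizer modulo `N` is central -/
theorem mem_sup_of_cm (hE : ExtraSp K E) (hN : N ≤ Subgroup.center H) (ε : Subgroup.center H →* ℂˣ)
    (hε : ∀ (z : H) (hz : z ∈ Subgroup.center H), ε ⟨z, hz⟩ = 1 ↔ z ∈ N)
    (hne : ∃ a ∈ E, ∃ b ∈ E, ⁅a, b⁆ ∉ N)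
    (hD : ∀ h : H, (∀ e ∈ E, ⁅h, e⁆ ∈ N) → h ∈ Subgroup.center H) {h : H}
    (hh : ∀ e ∈ E, ⁅h, e⁆ ∈ Subgroup.center H) : h ∈ E ⊔ Subgroup.center H := by
  classical
  let ZE : Subgroup E := (Subgroup.center H).subgroupOf E
  haveI : ZE.Normal := inferInstance
  letI : CommGroup (E ⧸ ZE) :=
    { (inferInstance : Group (E ⧸ ZE)) with
      mul_comm := by
        intro x y
        obtain ⟨x, rfl⟩ := QuotientGroup.mk_surjective x
        obtain ⟨y, rfl⟩ := QuotientGroup.mk_surjective y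
        rw [← QuotientGroup.mk_mul, ← QuotientGroup.mk_mul, QuotientGroup.eq]
        have h1 : (x * y)⁻¹ * (y * x) = ⁅y⁻¹, x⁻¹⁆ := by rw [commutatorElement_def]; group
        rw [h1]
        exact hE.cls _ (E.inv_mem y.2) _ (E.inv_mem x.2) }
  haveI : Finite ((E ⧸ ZE) →* ℂˣ) := Cfsg.Agent.Blocks.SemiregularGram.finite_hom _
  -- the homomorphism of `x`
  let C : Subgroup H := cm E (Subgroup.center H) le_rfl
  let β0 : C → (E →* ℂˣ) := fun x =>
    { toFun := fun e => ε ⟨⁅(x : H), (e : H)⁆, x.2 e e.2⟩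
      map_one' := by
        have : (⟨⁅(x : H), ((1 : E) : H)⁆, x.2 1 E.one_mem⟩ : Subgroup.center H) = 1 :=
          Subtype.ext (commutatorElement_one_right _)
        rw [this, map_one]
      map_mul' := by
        intro a b
        rw [← map_mul]
        congr 1
        exact Subtype.ext (comm_mul_right (x.2 b b.2)) }
  have hβ0 : ∀ (x : C) (e : E), β0 x e = ε ⟨⁅(x : H), (e : H)⁆, x.2 e e.2⟩ := fun _ _ => rfl
  let β : C →* ((E ⧸ ZE) →* ℂˣ) :=
    { toFun := fun x => QuotientGroup.lift ZE (β0 x) (by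
        intro e he
        have he' : (e : H) ∈ Subgroup.center H := he
        rw [MonoidHom.mem_ker, hβ0, hε]
        rw [commutatorElement_eq_one_iff_mul_comm.2 (Subgroup.mem_center_iff.1 he' x)]
        exact one_mem _)
      map_one' := by
        refine MonoidHom.ext fun e => ?_
        obtain ⟨e, rfl⟩ := QuotientGroup.mk_surjective e
        rw [QuotientGroup.lift_mk]
        have h1 : β0 1 e = 1 := by
          rw [hβ0, hε]
          have : ⁅((1 : C) : H), (e : H)⁆ = 1 := commutatorElement_one_left _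
          rw [this]
          exact one_mem _
        rw [h1]
        rfl
      map_mul' := by
        intro x y
        refine MonoidHom.ext fun e => ?_
        obtain ⟨e, rfl⟩ := QuotientGroup.mk_surjective e
        rw [QuotientGroup.lift_mk, MonoidHom.mul_apply, QuotientGroup.lift_mk, QuotientGroup.lift_mk]
        congr 1
        rw [hβ0, hβ0, hβ0, ← map_mul]
        exact congrArg ε (Subtype.ext (comm_mul_left (y.2 e e.2))) }
  have hβ : ∀ (x : C) (e : E), β x (e : E ⧸ ZE) = ε ⟨⁅(x : H), (e : H)⁆, x.2 e e.2⟩ := fun _ _ => rfl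
  have hβ1 : ∀ x : C, β x = 1 → ∀ e ∈ E, ⁅(x : H), e⁆ ∈ N := by
    intro x hx e he
    rw [← hε _ (x.2 e he), ← hβ x ⟨e, he⟩, hx]
    rfl
  have hEC : E ≤ C := fun e he e' he' => hE.cls e he e' he'
  let γ : (E ⧸ ZE) →* ((E ⧸ ZE) →* ℂˣ) := QuotientGroup.lift ZE (β.comp (Subgroup.inclusion hEC)) (by
    intro e he
    rw [MonoidHom.mem_ker]
    refine MonoidHom.ext fun e' => ?_
    obtain ⟨e', rfl⟩ := QuotientGroup.mk_surjective e'
    rw [MonoidHom.comp_apply, hβ]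
    have he' : (e : H) ∈ Subgroup.center H := he
    have h1 : ε ⟨⁅((Subgroup.inclusion hEC e : C) : H), (e' : H)⁆, (Subgroup.inclusion hEC e).2 e' e'.2⟩ = 1 := by
      rw [hε]
      have h2 : ⁅((Subgroup.inclusion hEC e : C) : H), (e' : H)⁆ = 1 :=
        commutatorElement_eq_one_iff_mul_comm.2 (Subgroup.mem_center_iff.1 he' e').symm
      rw [h2]
      exact one_mem _
    rw [h1]
    rfl)
  have hγi : Function.Injective γ := by
    rw [injective_iff_map_eq_one]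
    intro x hx
    obtain ⟨e, rfl⟩ := QuotientGroup.mk_surjective x
    have h1 : β (Subgroup.inclusion hEC e) = 1 := hx
    have h2 := mem_center_of_cm hN hE hne e.2 (hβ1 _ h1)
    exact (QuotientGroup.eq_one_iff e).2 h2
  have hγs : Function.Surjective γ := by
    have hcard : Nat.card ((E ⧸ ZE) →* ℂˣ) = Nat.card (E ⧸ ZE) :=
      CommGroup.card_monoidHom_of_hasEnoughRootsOfUnity (E ⧸ ZE) ℂ
    exact (Function.Injective.bijective_of_nat_card_le hγi hcard.le).2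
  obtain ⟨x, hx⟩ := hγs (β ⟨h, hh⟩)
  obtain ⟨e₀, rfl⟩ := QuotientGroup.mk_surjective x
  have h1 : β (Subgroup.inclusion hEC e₀) = β ⟨h, hh⟩ := hx
  have h2 : β ((Subgroup.inclusion hEC e₀)⁻¹ * ⟨h, hh⟩) = 1 := by
    rw [map_mul, map_inv, h1, inv_mul_cancel]
  have h3 : (e₀ : H)⁻¹ * h ∈ Subgroup.center H := hD _ (hβ1 _ h2)
  have h4 : h = (e₀ : H) * ((e₀ : H)⁻¹ * h) := by rw [mul_inv_cancel_left]
  rw [h4]
  exact mul_mem (Subgroup.mem_sup_left e₀.2) (Subgroup.mem_sup_right h3)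

end one

section core

open Cfsg.Agent.H20.NX (ExtraSp)

variable {p : ℕ} {H V : Type u} [Group H] [Finite H] [AddCommGroup V] [Finite V] [DistribMulAction H V]
  {K N : Subgroup H} {φ : N →* ℂˣ}

/-- the degrees over `φ` -/
theorem bad_of_core (C : CoreP (V := V) p K N φ) : Bad p N φ := by
  intro χ hχ hχN hd
  have hst : MulAction.stabilizer H (0 : V) = ⊤ := by
    rw [eq_top_iff]
    intro g _
    rw [MulAction.mem_stabilizer_iff, smul_zero]
  let e : ↥(MulAction.stabilizer H (0 : V)) →* H := Subgroup.subtype _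
  have he : Function.Surjective e := by
    intro g
    exact ⟨⟨g, by rw [hst]; trivial⟩, rfl⟩
  refine C.P2 0 (χ ∘ e) (isIrr_comp e he hχ) ?_ ?_
  · intro n hn hn'
    exact hχN ⟨n, hn⟩
  · rw [charDegree_comp_one]
    exact hd

theorem ne_mod (C : CoreP (V := V) p K N φ) (hni : ¬ ImpP H V) {E : Subgroup H} (hE : ExtraSp K E) :
    ∃ a ∈ E, ∃ b ∈ E, ⁅a, b⁆ ∉ N := by
  by_contra h
  push Not at h
  exact hE.nc (central_mod ⟨C.nt, C.irr⟩ hni C.perf C.cen C.ker hE.nE h)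

/-- **the invariant character of `E Z`** -/
theorem exists_psi_one (C : CoreP (V := V) p K N φ) (hni : ¬ ImpP H V) {E : Subgroup H} (hE : ExtraSp K E)
    (hNL : N ≤ E ⊔ Subgroup.center H) [(E ⊔ Subgroup.center H).Normal] :
    ∃ ψ : ↥(E ⊔ Subgroup.center H) → ℂ, IsIrrCharacter ↥(E ⊔ Subgroup.center H) ψ ∧
      inertia (E ⊔ Subgroup.center H) ψ = ⊤ ∧
      ∀ (n : H) (hn : n ∈ N), ψ ⟨n, hNL hn⟩ = ψ 1 * φ ⟨n, hn⟩ := by
  classical
  have hcomm : ∀ a ∈ Subgroup.center H, ∀ b ∈ Subgroup.center H, a * b = b * a :=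
    fun a ha b _ => (Subgroup.mem_center_iff.1 ha b).symm
  obtain ⟨μ₀, hμ₀⟩ := exists_ext C.cen hcomm φ
  obtain ⟨ε, hε⟩ := exists_eps (V := V) ⟨C.nt, C.irr⟩ hni C.ker
  obtain ⟨a, ha, b, hb, hab⟩ := ne_mod C hni hE
  -- the character of the centre
  obtain ⟨μ, hμ, hμne⟩ : ∃ μ : Subgroup.center H →* ℂˣ, (∀ n (hn : n ∈ N), μ ⟨n, C.cen hn⟩ = φ ⟨n, hn⟩) ∧
      ∃ a ∈ E, ∃ b ∈ E, ∃ h : ⁅a, b⁆ ∈ Subgroup.center H, μ ⟨⁅a, b⁆, h⟩ ≠ 1 := by
    by_cases h : ∃ a ∈ E, ∃ b ∈ E, ∃ h : ⁅a, b⁆ ∈ Subgroup.center H, μ₀ ⟨⁅a, b⁆, h⟩ ≠ 1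
    · exact ⟨μ₀, hμ₀, h⟩
    · push Not at h
      refine ⟨μ₀ * ε, ?_, a, ha, b, hb, hE.cls a ha b hb, ?_⟩
      · intro n hn
        rw [MonoidHom.mul_apply, hμ₀, (hε n (C.cen hn)).2 hn, mul_one]
      · rw [MonoidHom.mul_apply, h a ha b hb (hE.cls a ha b hb), one_mul]
        intro h1
        exact hab ((hε _ _).1 h1)
  -- the kernel of `μ`
  let A : Subgroup H := μ.ker.map (Subgroup.center H).subtype
  have hA : A ≤ Subgroup.center H := Subgroup.map_subtype_le _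
  have hmemA : ∀ (z : H) (hz : z ∈ Subgroup.center H), z ∈ A ↔ μ ⟨z, hz⟩ = 1 := by
    intro z hz
    constructor
    · rintro ⟨w, hw, hwz⟩
      have h1 : w = ⟨z, hz⟩ := Subtype.ext hwz
      rw [← h1]
      exact hw
    · intro h
      exact ⟨⟨z, hz⟩, h, rfl⟩
  have hneA : ∃ a ∈ E, ∃ b ∈ E, ⁅a, b⁆ ∉ A := by
    obtain ⟨a, ha, b, hb, h, h1⟩ := hμne
    exact ⟨a, ha, b, hb, fun h2 => h1 ((hmemA _ h).1 h2)⟩
  have hnd := fun {a : H} => mem_center_of_cm hA hE hneA (a := a)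
  have hdec : ∀ a ∈ E ⊔ Subgroup.center H, ∃ e ∈ E, ∃ z ∈ Subgroup.center H, a = e * z := by
    intro a ha
    obtain ⟨e, he, z, hz, h1⟩ := Subgroup.mem_sup_of_normal_right.1 ha
    exact ⟨e, he, z, hz, h1.symm⟩
  have hz1 : ∀ (x z : H), z ∈ Subgroup.center H → ⁅x, z⁆ = 1 := fun x z hz =>
    commutatorElement_eq_one_iff_mul_comm.2 (Subgroup.mem_center_iff.1 hz x)
  have hz2 : ∀ (x z : H), z ∈ Subgroup.center H → ⁅z, x⁆ = 1 := fun x z hz =>
    commutatorElement_eq_one_iff_mul_comm.2 (Subgroup.mem_center_iff.1 hz x).symm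
  have hcomm2 : ∀ a b e z : H, z ∈ Subgroup.center H → a = e * z → ⁅b, a⁆ = ⁅b, e⁆ := by
    intro a b e z hz h
    rw [h, comm_mul_right (by rw [hz1 _ _ hz]; exact one_mem _), hz1 _ _ hz, mul_one]
  have hcomm3 : ∀ a b e z : H, z ∈ Subgroup.center H → a = e * z → ⁅a, b⁆ = ⁅e, b⁆ := by
    intro a b e z hz h
    rw [h, comm_mul_left (by rw [hz2 _ _ hz]; exact one_mem _), hz2 _ _ hz, mul_one]
  obtain ⟨ψ, hψ, hψZ, -, hinv, -⟩ := Cfsg.Agent.H322.RIM.unique_of_nondeg (Z := Subgroup.center H)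
    (L := E ⊔ Subgroup.center H) le_sup_right le_rfl μ (by
      intro a ha b hb
      obtain ⟨e, he, z, hz, h1⟩ := hdec a ha
      obtain ⟨e', he', z', hz', h2⟩ := hdec b hb
      rw [hcomm3 a b e z hz h1, hcomm2 b e e' z' hz' h2]
      exact hE.cls e he e' he') (by
      intro a ha haZ
      obtain ⟨e, he, z, hz, h1⟩ := hdec a ha
      have heZ : e ∉ Subgroup.center H := by
        intro h
        apply haZ
        rw [h1]
        exact mul_mem h hz
      by_contra hcon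
      push Not at hcon
      apply heZ
      refine hnd he fun e' he' => ?_
      obtain ⟨hb, h2⟩ := hcon e' (Subgroup.mem_sup_left he')
      have h3 : ⁅e', a⁆ ∈ A := (hmemA _ hb).2 h2
      rw [hcomm2 a e' e z hz h1] at h3
      rw [← commutatorElement_inv]
      exact A.inv_mem h3)
  refine ⟨ψ, hψ, hinv, fun n hn => ?_⟩
  rw [hψZ n (C.cen hn), hμ n hn]

/-- **one layer**: `⁅K, H⁆ ≤ E Z(H)` -/
theorem one_comm (C : CoreP (V := V) p K N φ) (hni : ¬ ImpP H V) {E : Subgroup H} (hE : ExtraSp K E)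
    (hX : ∀ k ∈ K, ∀ h : H, ∀ e ∈ E, ⁅⁅k, h⁆, e⁆ ∈ Subgroup.center H)
    (hD : ∀ h : H, (∀ e ∈ E, ⁅h, e⁆ ∈ N) → h ∈ Subgroup.center H) :
    ∀ k ∈ K, ∀ h : H, ⁅k, h⁆ ∈ E ⊔ Subgroup.center H := by
  obtain ⟨ε, hε⟩ := exists_eps (V := V) ⟨C.nt, C.irr⟩ hni C.ker
  intro k hk h
  exact mem_sup_of_cm hE C.cen ε hε (ne_mod C hni hE) hD (hX k hk h)

end core

end Cfsg.Agent.H586.RIM
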